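import Mathlib.RingTheory.DiscreteValuationRing.Basic
import Mathlib.FieldTheory.IsSepClosed
import Mathlib.FieldTheory.SeparableClosure
import Mathlib.RingTheory.Polynomial.GaussLemma
import Mathlib.RingTheory.LocalRing.ResidueField.Basic
import Mathlib.RingTheory.Localization.Integral
import Mathlib.RingTheory.Polynomial.RationalRoot
import Mathlib.RingTheory.Ideal.GoingUp
import Mathlib.Order.Zorn
import Mathlib.Algebra.Polynomial.Eval.Irreducible

/-!
# Unramified extensions of discrete valuation rings with prescribed algebraic residue extension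
-/

set_option autoImplicit false

universe u

noncomputable section

open Polynomial IsLocalRing

namespace Groth.Agent.DvrExt

variable {OK : Type u} [CommRing OK] {Ω : Type u} [Field Ω] {k' : Type u} [Field k']
variable (ι : OK →+* Ω) (κ : OK →+* k') (π : OK)

/-- A stage of the construction. -/
structure Stage where
  O : Subring Ω
  base : ∀ a, ι a ∈ O
  ρ : O →+* k'
  hρ : ∀ a, ρ ⟨ι a, base a⟩ = κ a
  factor : ∀ x : O, x ≠ 0 → ∃ (n : ℕ) (u : Oˣ), x = u * (⟨ι π, base π⟩ : O) ^ n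
  ker : ∀ x : O, ρ x = 0 → (⟨ι π, base π⟩ : O) ∣ x

variable {ι κ π}

instance : Preorder (Stage ι κ π) where
  le s t := ∃ h : s.O ≤ t.O, ∀ x : s.O, t.ρ (Subring.inclusion h x) = s.ρ x
  le_refl s := ⟨le_rfl, fun _ => rfl⟩
  le_trans s t w := fun ⟨h1, e1⟩ ⟨h2, e2⟩ => ⟨h1.trans h2, fun x => (e2 (Subring.inclusion h1 x)).trans (e1 x)⟩

/-- The image of the uniformizer. -/
abbrev Stage.pi (s : Stage ι κ π) : s.O := ⟨ι π, s.base π⟩

variable (hπ0 : ι π ≠ 0) (hκπ : κ π = 0)

include hπ0 in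
theorem Stage.pi_ne_zero (s : Stage ι κ π) : s.pi ≠ 0 := fun h => hπ0 (congrArg Subtype.val h)

include hκπ in
theorem Stage.rho_pi (s : Stage ι κ π) : s.ρ s.pi = 0 := (s.hρ π).trans hκπ

include hκπ in
theorem Stage.isUnit_of_rho_ne_zero (s : Stage ι κ π) {x : s.O} (hx : s.ρ x ≠ 0) : IsUnit x := by
  obtain ⟨n, u, hu⟩ := s.factor x (fun h => hx (by rw [h, map_zero]))
  rcases n with _ | n
  · exact ⟨u, by simpa using hu.symm⟩
  · exact absurd (by rw [hu, map_mul, map_pow, s.rho_pi hκπ, zero_pow n.succ_ne_zero, mul_zero]) hx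

include hπ0 hκπ in
theorem Stage.isDVR (s : Stage ι κ π) :
    IsDiscreteValuationRing s.O ∧ (∀ x : s.O, s.ρ x = 0 ↔ s.pi ∣ x) := by
  have hker : ∀ x : s.O, s.ρ x = 0 ↔ s.pi ∣ x := fun x =>
    ⟨s.ker x, fun ⟨y, hy⟩ => by rw [hy, map_mul, s.rho_pi hκπ, zero_mul]⟩
  refine ⟨IsDiscreteValuationRing.ofHasUnitMulPowIrreducibleFactorization ⟨s.pi, ⟨?_, ?_⟩, ?_⟩, hker⟩
  · intro h
    have := h.map s.ρ
    rw [s.rho_pi hκπ] at this
    exact not_isUnit_zero this
  · intro a b hab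
    by_contra! hne
    have ha : s.ρ a = 0 := by_contra fun h => hne.1 (s.isUnit_of_rho_ne_zero hκπ h)
    have hb : s.ρ b = 0 := by_contra fun h => hne.2 (s.isUnit_of_rho_ne_zero hκπ h)
    obtain ⟨c, rfl⟩ := (hker a).mp ha
    obtain ⟨d, rfl⟩ := (hker b).mp hb
    have h1 : s.pi * 1 = s.pi * (c * (s.pi * d)) := by
      rw [mul_one]; conv_lhs => rw [hab]
      ring
    have h2 := mul_left_cancel₀ (s.pi_ne_zero hπ0) h1
    have : IsUnit s.pi := isUnit_of_dvd_one ⟨c * d, by rw [h2]; ring⟩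
    exact not_isUnit_zero (s.rho_pi hκπ ▸ this.map s.ρ)
  · intro x hx
    obtain ⟨n, u, hu⟩ := s.factor x hx
    exact ⟨n, ⟨u, by rw [mul_comm]; exact hu.symm⟩⟩

theorem exists_upper (c : Set (Stage ι κ π)) (hc : IsChain (· ≤ ·) c) (hne : c.Nonempty) :
    ∃ ub : Stage ι κ π, ∀ s ∈ c, s ≤ ub := by
  classical
  obtain ⟨s₀, hs₀⟩ := hne
  haveI : Nonempty c := ⟨⟨s₀, hs₀⟩⟩
  have hdir : Directed (· ≤ ·) fun s : c => s.1.O := fun a b => by
    rcases hc.total a.2 b.2 with ⟨h, -⟩ | ⟨h, -⟩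
    exacts [⟨b, h, le_rfl⟩, ⟨a, le_rfl, h⟩]
  let O : Subring Ω := ⨆ s : c, s.1.O
  have hmem : ∀ x : O, ∃ s : c, (x : Ω) ∈ s.1.O := fun x => (Subring.mem_iSup_of_directed hdir).mp x.2
  choose st hst using hmem
  let ρf : O → k' := fun x => (st x).1.ρ ⟨x, hst x⟩
  have key : ∀ (x : O) (s : c) (h : (x : Ω) ∈ s.1.O), ρf x = s.1.ρ ⟨x, h⟩ := fun x s h => by
    rcases hc.total (st x).2 s.2 with ⟨hle, e⟩ | ⟨hle, e⟩
    · exact (e ⟨x, hst x⟩).symm
    · exact e ⟨x, h⟩
  have hjoin : ∀ x y : O, ∃ s : c, (x : Ω) ∈ s.1.O ∧ (y : Ω) ∈ s.1.O := fun x y => by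
    obtain ⟨s, h1, h2⟩ := hdir (st x) (st y)
    exact ⟨s, h1 (hst x), h2 (hst y)⟩
  let ρ : O →+* k' :=
    { toFun := ρf
      map_one' := (key 1 ⟨s₀, hs₀⟩ (one_mem _)).trans (map_one _)
      map_zero' := (key 0 ⟨s₀, hs₀⟩ (zero_mem _)).trans (map_zero _)
      map_add' := fun x y => by
        obtain ⟨s, hx, hy⟩ := hjoin x y
        rw [key x s hx, key y s hy, key (x + y) s (add_mem hx hy), ← map_add]
        rfl
      map_mul' := fun x y => by
        obtain ⟨s, hx, hy⟩ := hjoin x y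
        rw [key x s hx, key y s hy, key (x * y) s (mul_mem hx hy), ← map_mul]
        rfl }
  have hle : ∀ s : c, s.1.O ≤ O := fun s => le_iSup (fun s : c => s.1.O) s
  refine ⟨⟨O, fun a => hle ⟨s₀, hs₀⟩ (s₀.base a), ρ, fun a => (key _ ⟨s₀, hs₀⟩ (s₀.base a)).trans (s₀.hρ a), ?_, ?_⟩,
    fun s hs => ⟨hle ⟨s, hs⟩, fun x => key _ ⟨s, hs⟩ x.2⟩⟩
  · intro x hx
    obtain ⟨n, u, hu⟩ := (st x).1.factor ⟨x, hst x⟩ fun h => hx (Subtype.ext (congrArg Subtype.val h :))
    exact ⟨n, Units.map (Subring.inclusion (hle (st x))).toMonoidHom u, Subtype.ext (congrArg Subtype.val hu :)⟩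
  · intro x hx
    obtain ⟨y, hy⟩ := (st x).1.ker ⟨x, hst x⟩ hx
    exact ⟨Subring.inclusion (hle (st x)) y, Subtype.ext (congrArg Subtype.val hy :)⟩

variable [IsSepClosed Ω]

include hπ0 hκπ in
theorem exists_step (s : Stage ι κ π) (α : k') (hα : ∃ q : Polynomial OK, q.map κ ≠ 0 ∧ q.eval₂ κ α = 0) :
    ∃ t : Stage ι κ π, ∃ _ : s ≤ t, α ∈ t.ρ.range := by
  classical
  obtain ⟨hdvr, hker⟩ := s.isDVR hπ0 hκπ
  haveI := hdvr
  let F : Subfield k' := { s.ρ.range with
    inv_mem' := by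
      rintro _ ⟨x, rfl⟩
      by_cases hx : s.ρ x = 0
      · exact ⟨0, by rw [map_zero, hx, inv_zero]⟩
      · obtain ⟨u, rfl⟩ := s.isUnit_of_rho_ne_zero hκπ hx
        exact ⟨↑u⁻¹, (eq_inv_of_mul_eq_one_right (by rw [← map_mul, Units.mul_inv, map_one]))⟩ }
  let r : s.O →+* F := s.ρ.codRestrict F fun x => ⟨x, rfl⟩
  have hr : Function.Surjective r := fun ⟨y, x, hx⟩ => ⟨x, Subtype.ext hx⟩
  have hint : IsIntegral F α := by
    obtain ⟨q, hq0, hq⟩ := hα
    let q' : Polynomial F := q.map (r.comp (ι.codRestrict s.O s.base))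
    have hcomp : (F.subtype).comp (r.comp (ι.codRestrict s.O s.base)) = κ := RingHom.ext fun a => s.hρ a
    refine isAlgebraic_iff_isIntegral.mp ⟨q', fun h => hq0 ?_, ?_⟩
    · rw [← hcomp, ← Polynomial.map_map, show q.map (r.comp (ι.codRestrict s.O s.base)) = 0 from h, Polynomial.map_zero]
    · rw [Polynomial.aeval_def, Polynomial.eval₂_map, show algebraMap F k' = F.subtype from rfl, hcomp, hq]
  set gb := minpoly F α with hgb
  have hgbm : gb.Monic := minpoly.monic hint
  have hgbi : Irreducible gb := minpoly.irreducible hint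
  obtain ⟨g₁, hg₁, hg₁d, hg₁m⟩ := Polynomial.lifts_and_degree_eq_and_monic
    ((Polynomial.mem_lifts gb).mpr (Polynomial.map_surjective r hr gb)) hgbm
  have hrπ : r s.pi = 0 := Subtype.ext (s.rho_pi hκπ)
  obtain ⟨g, hg, hgm, hgd⟩ : ∃ g : Polynomial s.O, g.map r = gb ∧ g.Monic ∧ derivative g ≠ 0 := by
    by_cases h : derivative g₁ ≠ 0
    · exact ⟨g₁, hg₁, hg₁m, h⟩
    push Not at h
    have h2 : 1 < g₁.natDegree := by
      have hpos : 0 < g₁.natDegree := by
        rw [natDegree_eq_of_degree_eq hg₁d]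
        exact minpoly.natDegree_pos hint
      by_contra hle
      rw [hg₁m.eq_X_add_C (by omega)] at h
      simp at h
    refine ⟨g₁ + C s.pi * X, ?_, hg₁m.add_of_left ?_, ?_⟩
    · rw [Polynomial.map_add, Polynomial.map_mul, map_C, hrπ, map_zero, zero_mul, add_zero, hg₁]
    · refine lt_of_le_of_lt (degree_C_mul_X_le _) ?_
      rw [degree_eq_natDegree hg₁m.ne_zero]
      exact_mod_cast h2
    · rw [derivative_add, h, zero_add, derivative_C_mul_X, Ne, C_eq_zero]
      exact s.pi_ne_zero hπ0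
  have hdeg : g.natDegree = gb.natDegree := by rw [← hg, hgm.natDegree_map]
  have hgi : Irreducible g := Polynomial.Monic.irreducible_of_irreducible_map r g hgm (by rw [hg]; exact hgbi)
  let L0 := FractionRing s.O
  let j : L0 →+* Ω := IsFractionRing.lift (g := s.O.subtype) Subtype.val_injective
  have hj : j.comp (algebraMap s.O L0) = s.O.subtype := RingHom.ext fun x => IsFractionRing.lift_algebraMap (g := s.O.subtype) Subtype.val_injective x
  have hgiK : Irreducible (g.map (algebraMap s.O L0)) := hgm.irreducible_iff_irreducible_map_fraction_map.mp hgi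
  have hsepK : (g.map (algebraMap s.O L0)).Separable := by
    refine (separable_iff_derivative_ne_zero hgiK).mpr ?_
    rw [derivative_map]
    exact fun h => hgd (Polynomial.map_injective _ (IsFractionRing.injective s.O L0) (h.trans (Polynomial.map_zero _).symm))
  have hdegpos : 0 < g.natDegree := hdeg ▸ minpoly.natDegree_pos hint
  obtain ⟨β, hβ⟩ : ∃ β : Ω, eval₂ s.O.subtype β g = 0 := by
    obtain ⟨β, hβ⟩ := IsSepClosed.exists_root ((g.map (algebraMap s.O L0)).map j) (by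
      rw [degree_map, hgm.degree_map, degree_eq_natDegree hgm.ne_zero]
      exact_mod_cast hdegpos.ne') hsepK.map
    refine ⟨β, ?_⟩
    rwa [IsRoot, eval_map, eval₂_map, hj] at hβ
  let ev : Polynomial s.O →+* Ω := eval₂RingHom s.O.subtype β
  let evα : Polynomial s.O →+* k' := eval₂RingHom s.ρ α
  have hρr : F.subtype.comp r = s.ρ := RingHom.ext fun x => rfl
  have hevα : ∀ h : Polynomial s.O, evα h = aeval α (h.map r) := fun h => by
    rw [aeval_def, eval₂_map, show algebraMap F k' = F.subtype from rfl, hρr]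
    rfl
  have hevαg : evα g = 0 := by rw [hevα, hg]; exact minpoly.aeval F α
  have hkerev : ∀ h, ev h = 0 → g ∣ h := fun h hh => by
    letI := j.toAlgebra
    have hroot : ∀ q : Polynomial s.O, aeval β (q.map (algebraMap s.O L0)) = ev q := fun q => by
      rw [aeval_def, eval₂_map, show algebraMap L0 Ω = j from rfl, hj]
      rfl
    have hmin : g.map (algebraMap s.O L0) = minpoly L0 β :=
      minpoly.eq_of_irreducible_of_monic hgiK ((hroot g).trans hβ) (hgm.map _)
    have := minpoly.dvd L0 β ((hroot h).trans hh)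
    rw [← hmin] at this
    exact (Polynomial.map_dvd_map _ (IsFractionRing.injective s.O L0) hgm).mp this
  let O' : Subring Ω := ev.range
  let q : Polynomial s.O →+* O' := ev.rangeRestrict
  have hq : Function.Surjective q := ev.rangeRestrict_surjective
  have hwd : RingHom.ker q ≤ RingHom.ker evα := fun h hh => by
    obtain ⟨d, rfl⟩ := hkerev h (congrArg Subtype.val hh)
    rw [RingHom.mem_ker, map_mul, hevαg, zero_mul]
  let ρ' : O' →+* k' := RingHom.liftOfRightInverse q (Function.surjInv hq) (Function.rightInverse_surjInv hq) ⟨evα, hwd⟩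
  have hρ' : ∀ h, ρ' (q h) = evα h := fun h => RingHom.liftOfRightInverse_comp_apply q _ _ _ h
  have hle : s.O ≤ O' := fun x hx => ⟨C ⟨x, hx⟩, eval₂_C _ _⟩
  have hqC : ∀ x : s.O, q (C x) = Subring.inclusion hle x := fun x => Subtype.ext (eval₂_C _ _)
  let p' : O' := ⟨ι π, hle (s.base π)⟩
  have hqπ : q (C s.pi) = p' := hqC _
  have hρp : ρ' p' = 0 := by
    rw [← hqπ, hρ']
    show eval₂ s.ρ α (C s.pi) = 0
    rw [eval₂_C, s.rho_pi hκπ]
  -- reduced representatives
  have hrep : ∀ x : O', ∃ h : Polynomial s.O, q h = x ∧ h.degree < g.degree := fun x => by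
    obtain ⟨h, rfl⟩ := hq x
    refine ⟨h %ₘ g, ?_, degree_modByMonic_lt _ hgm⟩
    apply Subtype.ext
    show ev (h %ₘ g) = ev h
    conv_rhs => rw [← modByMonic_add_div h g]
    rw [map_add, map_mul, show ev g = 0 from hβ, zero_mul, add_zero]
  have hredzero : ∀ h : Polynomial s.O, h.degree < g.degree → evα h = 0 → ∀ i, s.pi ∣ h.coeff i := by
    intro h hd hh i
    have h0 : h.map r = 0 := by
      by_contra hne
      rw [hevα] at hh
      have h1 := minpoly.degree_le_of_ne_zero F α hne hh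
      rw [← hgb, ← hg, hgm.degree_map] at h1
      exact absurd (lt_of_le_of_lt (degree_map_le.trans le_rfl) hd) (not_lt.mpr h1)
    refine s.ker _ ?_
    have := congrArg (fun t => t.coeff i) h0
    simp only [coeff_map, coeff_zero] at this
    exact congrArg Subtype.val this
  have hdiv : ∀ h : Polynomial s.O, (∀ i, s.pi ∣ h.coeff i) → ∃ h', h = C s.pi * h' := fun h hh =>
    C_dvd_iff_dvd_coeff _ _ |>.mpr hh
  have hker' : ∀ x : O', ρ' x = 0 → p' ∣ x := fun x hx => by
    obtain ⟨h, rfl, hd⟩ := hrep x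
    rw [hρ'] at hx
    obtain ⟨h', rfl⟩ := hdiv h (hredzero h hd hx)
    exact ⟨q h', by rw [map_mul, hqπ]⟩
  letI : Algebra s.O O' := (Subring.inclusion hle).toAlgebra
  haveI : Algebra.IsIntegral s.O O' := by
    refine ⟨fun x => ?_⟩
    obtain ⟨h, rfl⟩ := hq x
    have hX : IsIntegral s.O (q X) := by
      refine ⟨g, hgm, ?_⟩
      rw [show algebraMap s.O O' = q.comp C from RingHom.ext fun x => (hqC x).symm, ← hom_eval₂, eval₂_C_X]
      exact Subtype.ext hβ
    induction h using Polynomial.induction_on' with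
    | add a b ha hb => rw [map_add]; exact ha.add hb
    | monomial n a =>
      rw [← C_mul_X_pow_eq_monomial, map_mul, map_pow, hqC]
      exact (isIntegral_algebraMap (R := s.O) (x := a)).mul (hX.pow n)
  have hjac : ∀ z : O', IsUnit (1 + p' * z) := fun z => by
    by_contra hnu
    obtain ⟨M, hM, hmem⟩ := exists_max_ideal_of_mem_nonunits (mem_nonunits_iff.mpr hnu)
    haveI := hM
    haveI := Ideal.isMaximal_comap_of_isIntegral_of_isMaximal (R := s.O) M
    have hpm : s.pi ∈ maximalIdeal s.O := fun hu => not_isUnit_zero (s.rho_pi hκπ ▸ hu.map s.ρ)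
    rw [← IsLocalRing.eq_maximalIdeal ‹(M.comap (algebraMap s.O O')).IsMaximal›] at hpm
    have hpM : p' ∈ M := hpm
    exact hM.ne_top ((Ideal.eq_top_iff_one _).mpr (by simpa using M.sub_mem hmem (M.mul_mem_right z hpM)))
  have hunit : ∀ x : O', ρ' x ≠ 0 → IsUnit x := fun x hx => by
    obtain ⟨h, rfl⟩ := hq x
    have hcop : IsCoprime gb (h.map r) := by
      refine (hgbi.coprime_iff_not_dvd).mpr fun hdvd => hx ?_
      obtain ⟨d, hd⟩ := hdvd
      rw [hρ', hevα, hd, map_mul, hgb, minpoly.aeval, zero_mul]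
    obtain ⟨a, b, hab⟩ := hcop
    obtain ⟨b', hb'⟩ := Polynomial.map_surjective r hr b
    have h1 : ρ' (q b' * q h - 1) = 0 := by
      have hh := congrArg (aeval α) hab
      rw [map_add, map_mul, map_mul, hgb, minpoly.aeval, mul_zero, zero_add, map_one, ← hb', ← hevα, ← hevα] at hh
      rw [map_sub, map_mul, hρ', hρ', map_one, hh, sub_self]
    obtain ⟨z, hz⟩ := hker' _ h1
    exact isUnit_of_mul_isUnit_right (x := q b') (by rw [show q b' * q h = 1 + p' * z by rw [← hz]; ring]; exact hjac z)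
  have hfac : ∀ x : O', x ≠ 0 → ∃ (n : ℕ) (u : O'ˣ), x = u * p' ^ n := by
    have main : ∀ m : ℕ, ∀ h : Polynomial s.O, h.degree < g.degree → (∃ i, ¬ s.pi ^ (m + 1) ∣ h.coeff i) →
        ∃ (n : ℕ) (u : O'ˣ), q h = u * p' ^ n := by
      intro m
      induction m with
      | zero =>
        intro h hd hi
        refine ⟨0, (hunit (q h) fun h0 => ?_).unit, by simp⟩
        obtain ⟨i, hi⟩ := hi
        rw [hρ'] at h0
        exact hi (by simpa using hredzero h hd h0 i)
      | succ m ih =>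
        intro h hd hi
        by_cases h0 : evα h = 0
        · obtain ⟨h', rfl⟩ := hdiv h (hredzero h hd h0)
          obtain ⟨i, hi⟩ := hi
          rw [coeff_C_mul, pow_succ', mul_dvd_mul_iff_left (s.pi_ne_zero hπ0)] at hi
          rw [degree_C_mul (s.pi_ne_zero hπ0)] at hd
          obtain ⟨n, u, hu⟩ := ih h' hd ⟨i, hi⟩
          exact ⟨n + 1, u, by rw [map_mul, hqπ, hu, pow_succ]; ring⟩
        · exact ⟨0, (hunit (q h) (by rwa [hρ'])).unit, by simp⟩
    intro x hx
    obtain ⟨h, rfl, hd⟩ := hrep x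
    have hne : h ≠ 0 := fun h0 => hx (by rw [h0, map_zero])
    obtain ⟨i, hi⟩ : ∃ i, h.coeff i ≠ 0 := ⟨_, leadingCoeff_ne_zero.mpr hne⟩
    obtain ⟨m, u, hu⟩ := s.factor _ hi
    refine main m h hd ⟨i, fun hdvd => ?_⟩
    have hu' : h.coeff i = (u : s.O) * s.pi ^ m := hu
    rw [hu', Units.dvd_mul_left, pow_succ] at hdvd
    obtain ⟨c, hc⟩ := hdvd
    have h2 : s.pi ^ m * 1 = s.pi ^ m * (s.pi * c) := by rw [mul_one, ← mul_assoc]; exact hc
    have h3 : IsUnit s.pi := isUnit_of_dvd_one ⟨c, mul_left_cancel₀ (pow_ne_zero m (s.pi_ne_zero hπ0)) h2⟩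
    exact not_isUnit_zero (s.rho_pi hκπ ▸ h3.map s.ρ)
  have hρincl : ∀ x : s.O, ρ' (Subring.inclusion hle x) = s.ρ x := fun x => by
    rw [← hqC, hρ']
    exact eval₂_C _ _
  refine ⟨⟨O', fun a => hle (s.base a), ρ', fun a => (hρincl ⟨ι a, s.base a⟩).trans (s.hρ a), hfac, hker'⟩,
    ⟨hle, hρincl⟩, q X, ?_⟩
  show ρ' (q X) = α
  rw [hρ']
  exact eval₂_X _ _

end Groth.Agent.DvrExt
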